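import Mathlib

/-! Determinants expressing one sequence through another (Wiebe's lemma). -/

set_option autoImplicit false
universe u v

open Matrix

namespace Groth.Agent.GorInvLib

variable {T : Type u} [CommRing T] {ι : Type v} [Fintype ι] [DecidableEq ι]

/-- Cramer's rule: `x_l det M` lies in the ideal of the entries of `M x`. -/
theorem mul_det_mem (x : ι → T) (M : Matrix ι ι T) (J : Ideal T) (h : ∀ j, (M *ᵥ x) j ∈ J) (l : ι) :
    x l * M.det ∈ J := by
  have e : M.adjugate *ᵥ (M *ᵥ x) = M.det • x := by
    rw [mulVec_mulVec, adjugate_mul, smul_mulVec, one_mulVec]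
  have : x l * M.det = ∑ j, M.adjugate l j * (M *ᵥ x) j := by
    rw [mul_comm]
    exact (congrFun e l).symm
  rw [this]
  exact J.sum_mem fun j _ => J.mul_mem_left _ (h j)

/-- Two matrices expressing the same sequence `θ` in terms of `x` have the same determinant modulo a
regular sequence `η` with `θ j ∈ (η j)`. -/
theorem det_sub_mem (x θ η : ι → T) (hθ : ∀ j, θ j ∈ Ideal.span {η j})
    (hη : ∀ i, η i ∈ Ideal.span (Set.range x))
    (hreg : ∀ i a, η i * a ∈ Ideal.span (η '' {i}ᶜ) → a ∈ Ideal.span (η '' {i}ᶜ))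
    (c c' : Matrix ι ι T) (hc : c *ᵥ x = θ) (hc' : c' *ᵥ x = θ) :
    c.det - c'.det ∈ Ideal.span (Set.range η) := by
  suffices H : ∀ (s : Finset ι) (M : Matrix ι ι T), M *ᵥ x = θ → (∀ i, i ∉ s → M i = c' i) →
      M.det - c'.det ∈ Ideal.span (Set.range η) from
    H Finset.univ c hc fun i hi => absurd (Finset.mem_univ i) hi
  intro s
  induction s using Finset.induction with
  | empty =>
    intro M _ hM
    rw [show M = c' from funext fun i => hM i (Finset.notMem_empty i), sub_self]
    exact zero_mem _
  | @insert i s his ih =>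
    intro M hM hMs
    have hrow : ∀ j, M.updateRow i (c' i) *ᵥ x = θ ∧ (M.updateRow i (c' i - M i) *ᵥ x) j ∈ Ideal.span (η '' {i}ᶜ) := by
      intro j
      constructor
      · funext l
        rcases eq_or_ne l i with rfl | hl
        · rw [← congrFun hc' l, mulVec, mulVec, updateRow_self]
        · rw [← congrFun hM l, mulVec, mulVec, updateRow_ne hl]
      · rcases eq_or_ne j i with rfl | hj
        · have h0 : (M.updateRow j (c' j - M j) *ᵥ x) j = 0 := by
            rw [mulVec, updateRow_self, sub_dotProduct]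
            exact sub_eq_zero.2 ((congrFun hc' j).trans (congrFun hM j).symm)
          rw [h0]; exact zero_mem _
        · rw [mulVec, updateRow_ne hj]
          change (M *ᵥ x) j ∈ _
          rw [hM]
          exact Ideal.span_mono (Set.singleton_subset_iff.2 (Set.mem_image_of_mem η hj)) (hθ j)
    have hD : (M.updateRow i (c' i - M i)).det ∈ Ideal.span (η '' {i}ᶜ) := by
      refine hreg i _ ?_
      obtain ⟨a, ha⟩ := Ideal.mem_span_range_iff_exists_fun.1 (hη i)
      rw [← ha, Finset.sum_mul]
      refine Ideal.sum_mem _ fun l _ => ?_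
      rw [mul_assoc]
      exact Ideal.mul_mem_left _ _ (mul_det_mem x _ _ (fun j => (hrow j).2) l)
    have hsplit : (M.updateRow i (c' i)).det = (M.updateRow i (c' i - M i)).det + M.det := by
      conv_lhs => rw [show c' i = (c' i - M i) + M i from (sub_add_cancel _ _).symm, det_updateRow_add,
        updateRow_eq_self]
    have h2 := ih (M.updateRow i (c' i)) (hrow i).1 (fun l hl => by
      rcases eq_or_ne l i with rfl | hli
      · exact updateRow_self
      · rw [updateRow_ne hli]
        exact hMs l (by simp [hli, hl]))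
    have : M.det - c'.det = ((M.updateRow i (c' i)).det - c'.det) - (M.updateRow i (c' i - M i)).det := by
      rw [hsplit]; ring
    rw [this]
    exact sub_mem h2 (Ideal.span_mono (Set.image_subset_range _ _) hD)

section Monomial

variable {L : Type u} [CommRing L] {σ : Type v}

open MvPolynomial

/-- Pure powers of the variables form a regular sequence in any order. -/
theorem mem_of_X_pow_mul_mem (e : σ → ℕ) (i : σ) (a : MvPolynomial σ L)
    (h : X i ^ e i * a ∈ Ideal.span ((fun j => (X j : MvPolynomial σ L) ^ e j) '' {i}ᶜ)) :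
    a ∈ Ideal.span ((fun j => (X j : MvPolynomial σ L) ^ e j) '' {i}ᶜ) := by
  classical
  have he : (fun j => (X j : MvPolynomial σ L) ^ e j) '' {i}ᶜ =
      (fun d => monomial d (1 : L)) '' ((fun j => Finsupp.single j (e j)) '' {i}ᶜ) := by
    rw [Set.image_image]
    exact Set.image_congr fun j _ => X_pow_eq_monomial
  rw [he, mem_ideal_span_monomial_image] at h ⊢
  intro d hd
  have hd' : Finsupp.single i (e i) + d ∈ (X i ^ e i * a).support := by
    rw [mem_support_iff, X_pow_eq_monomial, coeff_monomial_mul, one_mul]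
    exact mem_support_iff.1 hd
  obtain ⟨_, ⟨j, hj, rfl⟩, hle⟩ := h _ hd'
  refine ⟨_, ⟨j, hj, rfl⟩, Finsupp.single_le_iff.2 ?_⟩
  have := Finsupp.single_le_iff.1 hle
  rwa [Finsupp.add_apply, Finsupp.single_eq_of_ne (by simpa using hj), zero_add] at this

/-- The determinant expressing polynomials without zero outside the origin (near it) through the
variables is not in the ideal they generate. -/
theorem det_notMem {L : Type u} [Field L] {σ : Type v} [Fintype σ] [DecidableEq σ]
    (θ : σ → MvPolynomial σ L) (c : Matrix σ σ (MvPolynomial σ L)) (hc : c *ᵥ X = θ)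
    [Module.Finite L (MvPolynomial σ L ⧸ Ideal.span (Set.range θ))] :
    c.det ∉ Ideal.span (Set.range θ) := by
  classical
  intro hdet
  let I := Ideal.span (Set.range θ)
  haveI : IsArtinianRing (MvPolynomial σ L ⧸ I) := IsArtinianRing.of_finite L _
  have hst : ∀ i, ∃ (N : ℕ) (t : MvPolynomial σ L), constantCoeff t = 1 ∧ t * X i ^ N ∈ I := fun i => by
    obtain ⟨N, y, hy⟩ := IsArtinian.exists_pow_succ_smul_dvd (Ideal.Quotient.mk I (X i))
      (1 : MvPolynomial σ L ⧸ I)
    obtain ⟨y, rfl⟩ := Ideal.Quotient.mk_surjective y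
    refine ⟨N, 1 - X i * y, by simp, ?_⟩
    rw [← Ideal.Quotient.eq_zero_iff_mem]
    simp only [smul_eq_mul, mul_one] at hy
    rw [map_mul, map_sub, map_one, map_mul, map_pow, sub_mul, one_mul, sub_eq_zero]
    conv_lhs => rw [← hy]
    rw [Nat.succ_eq_add_one]
    ring
  choose N₀ t₀ ht₀ hI₀ using hst
  let N := Finset.univ.sup N₀
  let η : σ → MvPolynomial σ L := fun i => X i ^ (N + 1)
  have hI : ∀ i, t₀ i * η i ∈ I := fun i => by
    have : η i = X i ^ N₀ i * X i ^ (N + 1 - N₀ i) := by
      rw [← pow_add, Nat.add_sub_cancel' ((Finset.le_sup (Finset.mem_univ i)).trans N.le_succ)]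
    rw [this, ← mul_assoc]
    exact I.mul_mem_right _ (hI₀ i)
  choose e he using fun i => Ideal.mem_span_range_iff_exists_fun.1 (hI i)
  have he' : Matrix.of e *ᵥ θ = fun i => t₀ i * η i := funext fun i => he i
  have h1 := det_sub_mem X (fun i => t₀ i * η i) η (fun i => Ideal.mem_span_singleton'.2 ⟨t₀ i, rfl⟩)
    (fun i => by
      show X i ^ (N + 1) ∈ _
      rw [pow_succ]
      exact Ideal.mul_mem_left _ _ (Ideal.subset_span ⟨i, rfl⟩))
    (fun i a h => mem_of_X_pow_mul_mem (fun _ => N + 1) i a h)
    (Matrix.of e * c) (Matrix.diagonal fun i => t₀ i * X i ^ N)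
    (by rw [← mulVec_mulVec, hc, he'])
    (by funext i; rw [mulVec_diagonal, mul_assoc, ← pow_succ])
  rw [det_mul, det_diagonal, Finset.prod_mul_distrib] at h1
  have h2 : (Matrix.of e).det * c.det ∈ Ideal.span (Set.range η) := by
    obtain ⟨a, ha⟩ := Ideal.mem_span_range_iff_exists_fun.1 hdet
    rw [← ha, Finset.mul_sum]
    refine Ideal.sum_mem _ fun i _ => ?_
    rw [mul_left_comm, mul_comm _ (θ i)]
    refine Ideal.mul_mem_left _ _ (mul_det_mem θ _ _ (fun j => ?_) i)
    rw [he']
    exact Ideal.mul_mem_left _ _ (Ideal.subset_span ⟨j, rfl⟩)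
  have h3 := sub_mem h2 h1
  rw [sub_sub_cancel] at h3
  have hη : Set.range η = (fun d => monomial d (1 : L)) '' Set.range (fun i : σ => Finsupp.single i (N + 1)) := by
    rw [← Set.range_comp]
    exact congrArg Set.range (funext fun i => X_pow_eq_monomial)
  rw [hη, mem_ideal_span_monomial_image] at h3
  have hd : (∑ i, Finsupp.single i N) ∈ ((∏ i, t₀ i) * ∏ i, (X i : MvPolynomial σ L) ^ N).support := by
    rw [mem_support_iff, show (∏ i, (X i : MvPolynomial σ L) ^ N) = monomial (∑ i, Finsupp.single i N) 1 by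
      rw [monomial_sum_one]; exact Finset.prod_congr rfl fun i _ => X_pow_eq_monomial,
      coeff_mul_monomial', if_pos le_rfl, tsub_self, mul_one, ← constantCoeff_eq, map_prod]
    simp [ht₀]
  obtain ⟨_, ⟨j, rfl⟩, hle⟩ := h3 _ hd
  have := Finsupp.single_le_iff.1 hle
  simp [Finsupp.single_apply] at this

end Monomial

end Groth.Agent.GorInvLib
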