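import Groth.Agent.GorInvLib.Det

/-!
# The trace form of a finite projective polynomial subring of a polynomial ring

For `P = k[y]` inside `R = k[X]` with `R` finite projective over `P`, the determinant expressing
`1 ⊗ y - y ⊗ 1` through `1 ⊗ X - X ⊗ 1` identifies `Hom_P(R, P)` with `R`, canonically.
-/

set_option autoImplicit false
set_option backward.isDefEq.respectTransparency false
universe u v w

open MvPolynomial TensorProduct Matrix

noncomputable section

namespace Groth.Agent.GorInvLib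

variable {k : Type u} [Field k] {σ : Type v} [Fintype σ] [DecidableEq σ] {τ : Type w}
  [Algebra (MvPolynomial τ k) (MvPolynomial σ k)] [IsScalarTower k (MvPolynomial τ k) (MvPolynomial σ k)]
  (e : σ ≃ τ)

local notation "Rp" => MvPolynomial σ k
local notation "Pp" => MvPolynomial τ k
local notation "TT" => MvPolynomial σ k ⊗[k] MvPolynomial σ k

omit [Fintype σ] [DecidableEq σ] in
theorem alg_C (a : k) : algebraMap Pp Rp (C a) = C a :=
  (IsScalarTower.algebraMap_apply k Pp Rp a).symm

/-- The difference `1 ⊗ u - u ⊗ 1`. -/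
def dd (u : Rp) : TT := (1 : Rp) ⊗ₜ[k] u - u ⊗ₜ[k] (1 : Rp)

/-- The images of the variables of the base. -/
def th (i : σ) : Rp := algebraMap Pp Rp (X (e i))

/-- The ideal of `R ⊗ R` cutting out `R ⊗_P R`. -/
def relIdeal : Ideal TT := Ideal.span (Set.range fun i => dd (k := k) (σ := σ) (th e i))

omit [Fintype σ] [DecidableEq σ] in
theorem dd_C (a : k) : dd (k := k) (σ := σ) (C a) = 0 := by
  rw [dd, ← algebraMap_eq, Algebra.algebraMap_eq_smul_one, tmul_smul, smul_tmul', sub_self]

omit [Fintype σ] [DecidableEq σ] in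
theorem dd_add (p q : Rp) : dd (k := k) (σ := σ) (p + q) = dd p + dd q := by
  simp only [dd, tmul_add, add_tmul]; abel

omit [Fintype σ] [DecidableEq σ] in
theorem dd_mul (p q : Rp) :
    dd (k := k) (σ := σ) (p * q) = dd p * ((1 : Rp) ⊗ₜ[k] q) + (p ⊗ₜ[k] (1 : Rp)) * dd q := by
  simp only [dd, sub_mul, mul_sub, Algebra.TensorProduct.tmul_mul_tmul, one_mul, mul_one]; abel

omit [Fintype σ] [DecidableEq σ] in
theorem dd_mem_span (u : Rp) : dd u ∈ Ideal.span (Set.range fun i => dd (k := k) (σ := σ) (X i)) := by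
  induction u using MvPolynomial.induction_on with
  | C a => rw [dd_C]; exact zero_mem _
  | add p q hp hq => rw [dd_add]; exact add_mem hp hq
  | mul_X p i hp =>
    rw [dd_mul]
    exact add_mem (Ideal.mul_mem_right _ _ hp) (Ideal.mul_mem_left _ _ (Ideal.subset_span ⟨i, rfl⟩))

omit [Fintype σ] [DecidableEq σ] in
theorem dd_algebraMap_mem (p : Pp) : dd (algebraMap Pp Rp p) ∈ relIdeal e := by
  induction p using MvPolynomial.induction_on with
  | C a =>
    rw [alg_C, dd_C]
    exact zero_mem _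
  | add p q hp hq => rw [map_add, dd_add]; exact add_mem hp hq
  | mul_X p t hp =>
    rw [map_mul, dd_mul]
    refine add_mem (Ideal.mul_mem_right _ _ hp) (Ideal.mul_mem_left _ _ (Ideal.subset_span ⟨e.symm t, ?_⟩))
    show dd (th e (e.symm t)) = _
    rw [th, Equiv.apply_symm_apply]

/-- A matrix expressing the relations through the diagonal. -/
def IsExpr (c : Matrix σ σ TT) : Prop := c *ᵥ (fun i => dd (X i)) = fun i => dd (th e i)

omit [DecidableEq σ] in
theorem exists_isExpr : ∃ c : Matrix σ σ TT, IsExpr e c := by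
  choose c hc using fun i => Ideal.mem_span_range_iff_exists_fun.1 (dd_mem_span (k := k) (σ := σ) (th e i))
  exact ⟨Matrix.of c, funext fun i => hc i⟩

/-- Contraction of the second factor against a functional. -/
def contract (φ : Rp →ₗ[Pp] Pp) : TT →ₗ[k] Rp :=
  LinearMap.mul' k Rp ∘ₗ LinearMap.lTensor Rp ((Algebra.linearMap Pp Rp ∘ₗ φ).restrictScalars k)

omit [Fintype σ] [DecidableEq σ] in
@[simp] theorem contract_tmul (φ : Rp →ₗ[Pp] Pp) (r s : Rp) :
    contract φ (r ⊗ₜ[k] s) = r * algebraMap Pp Rp (φ s) := by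
  simp [contract]

omit [Fintype σ] [DecidableEq σ] in
theorem contract_left (φ : Rp →ₗ[Pp] Pp) (r : Rp) (z : TT) :
    contract φ ((r ⊗ₜ[k] (1 : Rp)) * z) = r * contract φ z := by
  induction z using TensorProduct.induction_on with
  | zero => simp
  | tmul a b => simp [mul_assoc]
  | add x y hx hy => simp only [mul_add, map_add, hx, hy]

omit [Fintype σ] [DecidableEq σ] in
theorem contract_right (φ : Rp →ₗ[Pp] Pp) (r : Rp) (z : TT) :
    contract φ (((1 : Rp) ⊗ₜ[k] r) * z) = contract (φ ∘ₗ LinearMap.mulLeft Pp r) z := by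
  induction z using TensorProduct.induction_on with
  | zero => simp
  | tmul a b => simp
  | add x y hx hy => simp only [mul_add, map_add, hx, hy]

omit [Fintype σ] [DecidableEq σ] in
theorem contract_eq_zero (φ : Rp →ₗ[Pp] Pp) {z : TT} (hz : z ∈ relIdeal e) : contract φ z = 0 := by
  obtain ⟨f, hf⟩ := (Finsupp.mem_span_range_iff_exists_finsupp).1 hz
  rw [← hf, Finsupp.sum, map_sum]
  refine Finset.sum_eq_zero fun i _ => ?_
  generalize f i = w
  induction w using TensorProduct.induction_on with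
  | zero => simp
  | tmul a b =>
    simp only [smul_eq_mul, dd, th, mul_sub, Algebra.TensorProduct.tmul_mul_tmul, mul_one, map_sub, contract_tmul]
    rw [mul_comm b, ← Algebra.smul_def, map_smul, smul_eq_mul, map_mul]
    ring
  | add x y hx hy => simp only [add_smul, map_add, hx, hy, add_zero]

/-- The map `Hom_P(R, P) → R` attached to an expression. -/
def phi (c : Matrix σ σ TT) (φ : Rp →ₗ[Pp] Pp) : Rp := contract φ c.det

omit [IsScalarTower k (MvPolynomial τ k) (MvPolynomial σ k)] in
theorem dd_mul_det_mem {c : Matrix σ σ TT} (hc : IsExpr e c) (u : Rp) : dd u * c.det ∈ relIdeal e := by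
  obtain ⟨a, ha⟩ := Ideal.mem_span_range_iff_exists_fun.1 (dd_mem_span u)
  rw [← ha, Finset.sum_mul]
  refine Ideal.sum_mem _ fun l _ => ?_
  rw [mul_assoc]
  refine Ideal.mul_mem_left _ _ (mul_det_mem (fun i => dd (k := k) (σ := σ) (X i)) c _ (fun j => ?_) l)
  rw [hc]
  exact Ideal.subset_span ⟨j, rfl⟩

theorem phi_mul {c : Matrix σ σ TT} (hc : IsExpr e c) (φ : Rp →ₗ[Pp] Pp) (r : Rp) :
    phi c (φ ∘ₗ LinearMap.mulLeft Pp r) = r * phi c φ := by
  rw [phi, phi, ← contract_right, ← contract_left, ← sub_eq_zero, ← map_sub, ← sub_mul]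
  exact contract_eq_zero e φ (dd_mul_det_mem e hc r)

section Projective

variable [Module.Finite (MvPolynomial τ k) (MvPolynomial σ k)] [Module.Projective (MvPolynomial τ k) (MvPolynomial σ k)]

omit [Fintype σ] [DecidableEq σ] [IsScalarTower k (MvPolynomial τ k) (MvPolynomial σ k)] in
theorem exists_dualBasis : ∃ (m : ℕ) (g : Fin m → Rp) (f : Fin m → Rp →ₗ[Pp] Pp),
    ∀ s, s = ∑ j, algebraMap Pp Rp (f j s) * g j := by
  obtain ⟨m, π, hπ⟩ := Module.Finite.exists_fin' Pp Rp
  obtain ⟨h, hh⟩ := Module.projective_lifting_property π LinearMap.id hπ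
  refine ⟨m, fun j => π (Pi.single j 1), fun j => LinearMap.proj j ∘ₗ h, fun s => ?_⟩
  conv_lhs => rw [show s = π (h s) from (LinearMap.congr_fun hh s).symm, pi_eq_sum_univ' (h s), map_sum]
  exact Finset.sum_congr rfl fun j _ => by rw [map_smul, Algebra.smul_def]; rfl

omit [Fintype σ] [DecidableEq σ] [Module.Finite (MvPolynomial τ k) (MvPolynomial σ k)]
  [Module.Projective (MvPolynomial τ k) (MvPolynomial σ k)] in
theorem sub_sum_mem {m : ℕ} {g : Fin m → Rp} {f : Fin m → Rp →ₗ[Pp] Pp}
    (hgf : ∀ s, s = ∑ j, algebraMap Pp Rp (f j s) * g j) (z : TT) :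
    z - ∑ j, contract (f j) z ⊗ₜ[k] g j ∈ relIdeal e := by
  induction z using TensorProduct.induction_on with
  | zero => simp
  | tmul r s =>
    conv => enter [2, 1]; rw [hgf s, tmul_sum]
    rw [← Finset.sum_sub_distrib]
    refine Ideal.sum_mem _ fun j _ => ?_
    have : r ⊗ₜ[k] (algebraMap Pp Rp (f j s) * g j) - contract (f j) (r ⊗ₜ[k] s) ⊗ₜ[k] g j =
        (r ⊗ₜ[k] g j) * dd (algebraMap Pp Rp (f j s)) := by
      simp only [dd, mul_sub, Algebra.TensorProduct.tmul_mul_tmul, contract_tmul, mul_one]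
      rw [mul_comm (g j)]
    rw [this]
    exact Ideal.mul_mem_left _ _ (dd_algebraMap_mem e _)
  | add x y hx hy =>
    simp only [map_add, add_tmul, Finset.sum_add_distrib, add_sub_add_comm]
    exact add_mem hx hy

theorem phi_surjective {c : Matrix σ σ TT} (hc : IsExpr e c) : Function.Surjective (phi c : (Rp →ₗ[Pp] Pp) → Rp) := by
  classical
  obtain ⟨m, g, f, hgf⟩ := exists_dualBasis (k := k) (σ := σ) (τ := τ)
  let I : Ideal Rp :=
    { carrier := Set.range (phi c : (Rp →ₗ[Pp] Pp) → Rp)
      zero_mem' := ⟨0, by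
        rw [phi]
        induction c.det using TensorProduct.induction_on with
        | zero => simp
        | tmul a b => simp
        | add x y hx hy => rw [map_add, hx, hy, add_zero]⟩
      add_mem' := by
        rintro _ _ ⟨φ, rfl⟩ ⟨ψ, rfl⟩
        refine ⟨φ + ψ, ?_⟩
        rw [phi, phi, phi]
        induction c.det using TensorProduct.induction_on with
        | zero => simp
        | tmul a b => simp [mul_add]
        | add x y hx hy => rw [map_add, hx, hy, map_add, map_add]; abel
      smul_mem' := by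
        rintro r _ ⟨φ, rfl⟩
        exact ⟨φ ∘ₗ LinearMap.mulLeft Pp r, phi_mul e hc φ r⟩ }
  suffices I = ⊤ by
    intro r
    exact (this ▸ Submodule.mem_top : r ∈ I)
  by_contra hI
  obtain ⟨M, hM, hle⟩ := Ideal.exists_le_maximal I hI
  letI := Ideal.Quotient.field M
  let q : Rp →ₐ[k] Rp ⧸ M := Ideal.Quotient.mkₐ k M
  let ev : TT →ₐ[k] MvPolynomial σ (Rp ⧸ M) :=
    Algebra.TensorProduct.lift ((IsScalarTower.toAlgHom k (Rp ⧸ M) (MvPolynomial σ (Rp ⧸ M))).comp q)
      (MvPolynomial.aeval fun i => X i + C (q (X i))) (fun _ _ => Commute.all _ _)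
  have hev : ∀ r s : Rp, ev (r ⊗ₜ[k] s) = C (q r) * MvPolynomial.aeval (fun i => X i + C (q (X i))) s :=
    fun r s => by simp [ev]
  have hX : ∀ i, ev (dd (X i)) = X i := fun i => by
    rw [dd, map_sub, hev, hev, map_one, map_one, one_mul, map_one, mul_one, aeval_X]
    ring
  let θ' : σ → MvPolynomial σ (Rp ⧸ M) := fun i => ev (dd (th e i))
  have hc' : c.map ev *ᵥ X = θ' := by
    funext i
    have := congrArg ev (congrFun hc i)
    simp only [mulVec, dotProduct, map_sum, map_mul, hX] at this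
    exact this
  let J := Ideal.span (Set.range θ')
  have hJ : ∀ z ∈ relIdeal (k := k) e, ev z ∈ J := by
    intro z hz
    have := Ideal.mem_map_of_mem ev.toRingHom hz
    rwa [relIdeal, Ideal.map_span, ← Set.range_comp] at this
  have hsum : ∀ z, Ideal.Quotient.mk J (ev z) =
      ∑ j, q (contract (f j) z) • Ideal.Quotient.mk J (ev ((1 : Rp) ⊗ₜ[k] g j)) := by
    intro z
    rw [Ideal.Quotient.eq.2 (by rw [← map_sub]; exact hJ _ (sub_sum_mem e hgf z)), map_sum, map_sum]
    refine Finset.sum_congr rfl fun j _ => ?_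
    rw [hev, hev, map_one, map_one, one_mul, map_mul]
    rw [← map_mul, C_mul']; rfl
  have hsurj : Function.Surjective ev := by
    rw [← AlgHom.range_eq_top, eq_top_iff]
    intro p _
    induction p using MvPolynomial.induction_on with
    | C a =>
      obtain ⟨r, rfl⟩ := Ideal.Quotient.mk_surjective a
      exact ⟨r ⊗ₜ[k] 1, by show ev _ = _; rw [hev, map_one, mul_one]; rfl⟩
    | add x y hx hy => exact add_mem (hx trivial) (hy trivial)
    | mul_X x i hx => exact mul_mem (hx trivial) ⟨dd (X i), hX i⟩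
  haveI : Module.Finite (Rp ⧸ M) (MvPolynomial σ (Rp ⧸ M) ⧸ J) := by
    refine ⟨⟨Finset.univ.image fun j => Ideal.Quotient.mk J (ev ((1 : Rp) ⊗ₜ[k] g j)), eq_top_iff.2 fun x _ => ?_⟩⟩
    obtain ⟨p, rfl⟩ := Ideal.Quotient.mk_surjective x
    obtain ⟨z, rfl⟩ := hsurj p
    rw [hsum]
    exact Submodule.sum_mem _ fun j _ => Submodule.smul_mem _ _
      (Submodule.subset_span (Finset.mem_coe.2 (Finset.mem_image_of_mem _ (Finset.mem_univ j))))
  refine det_notMem θ' (c.map ev) hc' ?_
  rw [← Ideal.Quotient.eq_zero_iff_mem, show (c.map ev).det = ev c.det from (ev.map_det c).symm, hsum]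
  refine Finset.sum_eq_zero fun j _ => ?_
  rw [show q (contract (f j) c.det) = 0 from Ideal.Quotient.eq_zero_iff_mem.2 (hle ⟨f j, rfl⟩), zero_smul]

omit [Fintype σ] [DecidableEq σ] [Module.Finite (MvPolynomial τ k) (MvPolynomial σ k)]
  [Module.Projective (MvPolynomial τ k) (MvPolynomial σ k)] in
theorem apply_contract_comm (φ ψ : Rp →ₗ[Pp] Pp) (z : TT) :
    φ (contract ψ (Algebra.TensorProduct.comm k Rp Rp z)) = ψ (contract φ z) := by
  induction z using TensorProduct.induction_on with
  | zero => simp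
  | tmul r s =>
    rw [Algebra.TensorProduct.comm_tmul, contract_tmul, contract_tmul, mul_comm s, mul_comm r,
      ← Algebra.smul_def, ← Algebra.smul_def, map_smul, map_smul, smul_eq_mul, smul_eq_mul, mul_comm]
  | add x y hx hy => simp only [map_add, hx, hy]

theorem phi_injective {c : Matrix σ σ TT} (hc : IsExpr e c) {φ : Rp →ₗ[Pp] Pp} (h : phi c φ = 0) : φ = 0 := by
  let sw := Algebra.TensorProduct.comm k Rp Rp
  have hsw : ∀ u, sw (dd u) = -dd u := fun u => by
    simp only [sw, dd, map_sub, Algebra.TensorProduct.comm_tmul, neg_sub]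
  have hc' : IsExpr e (c.map sw) := by
    funext i
    have := congrArg sw (congrFun hc i)
    simp only [mulVec, dotProduct, map_sum, map_mul, hsw] at this
    refine neg_injective (Eq.trans ?_ this)
    rw [mulVec, dotProduct, ← Finset.sum_neg_distrib]
    exact Finset.sum_congr rfl fun x _ => (mul_neg (sw (c i x)) (dd (k := k) (σ := σ) (X x))).symm
  refine LinearMap.ext fun s => ?_
  obtain ⟨ψ, rfl⟩ := phi_surjective e hc' s
  rw [phi, show (c.map sw).det = sw c.det from (sw.toAlgHom.map_det c).symm, apply_contract_comm]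
  exact (congrArg ψ h).trans (map_zero ψ)

omit [Fintype σ] [DecidableEq σ] in
theorem mem_of_th_sub_mul_mem (b : τ → k) (i : σ) (a : Rp)
    (h : (th e i - C (b (e i))) * a ∈ Ideal.span ((fun l => th (k := k) e l - C (b (e l))) '' {i}ᶜ)) :
    a ∈ Ideal.span ((fun l => th (k := k) e l - C (b (e l))) '' {i}ᶜ) := by
  classical
  obtain ⟨m, g, f, hgf⟩ := exists_dualBasis (k := k) (σ := σ) (τ := τ)
  let η : τ → Pp := fun t => X t - C (b t)
  have hη : ∀ l, th e l - C (b (e l)) = algebraMap Pp Rp (η (e l)) := fun l => by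
    rw [map_sub, th, alg_C]
  let sh : Pp →ₐ[k] Pp := MvPolynomial.aeval fun t => X t + C (b t)
  let sh' : Pp →ₐ[k] Pp := MvPolynomial.aeval fun t => X t - C (b t)
  have hsh : ∀ p, sh' (sh p) = p := fun p =>
    AlgHom.congr_fun (show sh'.comp sh = AlgHom.id k Pp from MvPolynomial.algHom_ext fun t => by
      simp [sh, sh', MvPolynomial.aeval_C]) p
  have hmem : ∀ p : Pp, η (e i) * p ∈ Ideal.span (η '' {e i}ᶜ) → p ∈ Ideal.span (η '' {e i}ᶜ) := by
    intro p hp
    have h1 := Ideal.mem_map_of_mem sh.toRingHom hp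
    have e1 : sh.toRingHom '' (η '' {e i}ᶜ) = (fun t => (X t : Pp) ^ 1) '' {e i}ᶜ := by
      rw [Set.image_image]
      exact Set.image_congr fun t _ => by simp [sh, η]
    rw [Ideal.map_span, e1, AlgHom.toRingHom_eq_coe, RingHom.coe_coe, map_mul,
      show sh (η (e i)) = X (e i) ^ 1 by simp [sh, η]] at h1
    have h2 := Ideal.mem_map_of_mem sh'.toRingHom (mem_of_X_pow_mul_mem (fun _ => 1) (e i) (sh p) h1)
    have e2 : sh'.toRingHom '' ((fun t => (X t : Pp) ^ 1) '' {e i}ᶜ) = η '' {e i}ᶜ := by
      rw [Set.image_image]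
      exact Set.image_congr fun t _ => by simp [sh', η]
    rwa [Ideal.map_span, e2, AlgHom.toRingHom_eq_coe, RingHom.coe_coe, hsh] at h2
  have himg : (fun l => th (k := k) e l - C (b (e l))) '' {i}ᶜ = algebraMap Pp Rp '' (η '' {e i}ᶜ) := by
    ext x
    constructor
    · rintro ⟨l, hl, rfl⟩
      exact ⟨_, ⟨e l, fun h => hl (e.injective h), rfl⟩, (hη l).symm⟩
    · rintro ⟨_, ⟨t, ht, rfl⟩, rfl⟩
      exact ⟨e.symm t, fun h => ht (by simp [Set.mem_singleton_iff.1 h ▸ e.apply_symm_apply t]),
        (hη (e.symm t)).trans (by rw [Equiv.apply_symm_apply])⟩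
  rw [himg, ← Ideal.map_span] at h ⊢
  rw [hgf a]
  refine Ideal.sum_mem _ fun j _ => Ideal.mul_mem_right _ _ (Ideal.mem_map_of_mem _ (hmem _ ?_))
  have h' : (th e i - C (b (e i))) * a ∈ (Ideal.span (η '' {e i}ᶜ) • ⊤ : Submodule Pp Rp) := by
    rw [Ideal.smul_top_eq_map]; exact h
  have key : ∀ x ∈ (Ideal.span (η '' {e i}ᶜ) • ⊤ : Submodule Pp Rp), f j x ∈ Ideal.span (η '' {e i}ᶜ) := by
    intro x hx
    refine Submodule.smul_induction_on hx (fun p hp s _ => ?_) (fun x y hx hy => ?_)
    · rw [map_smul, smul_eq_mul]; exact Ideal.mul_mem_right _ _ hp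
    · rw [map_add]; exact add_mem hx hy
  have := key _ h'
  rwa [hη, ← Algebra.smul_def, map_smul, smul_eq_mul] at this

/-- The map does not depend on the expression. -/
theorem phi_unique {c c' : Matrix σ σ TT} (hc : IsExpr e c) (hc' : IsExpr e c') (φ : Rp →ₗ[Pp] Pp) :
    phi c' φ = phi c φ := by
  obtain ⟨φ₁, hφ₁⟩ := phi_surjective e hc 1
  have hdec : ∀ ψ, ψ = φ₁ ∘ₗ LinearMap.mulLeft Pp (phi c ψ) := fun ψ => by
    refine sub_eq_zero.1 (phi_injective e hc ?_)
    have hsub : ∀ α β : Rp →ₗ[Pp] Pp, phi c (α - β) = phi c α - phi c β := fun α β => by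
      rw [phi, phi, phi]
      induction c.det using TensorProduct.induction_on with
      | zero => simp
      | tmul a b => simp [mul_sub]
      | add x y hx hy => rw [map_add, hx, hy, map_add, map_add]; abel
    rw [hsub, phi_mul e hc, hφ₁, mul_one, sub_self]
  have hmul : ∀ ψ, phi c' ψ = phi c ψ * phi c' φ₁ := fun ψ => by
    conv_lhs => rw [hdec ψ]
    exact phi_mul e hc' _ _
  suffices hu : phi c' φ₁ = 1 by rw [hmul, hu, mul_one]
  obtain ⟨ψ, hψ⟩ := phi_surjective e hc' 1
  have hunit : IsUnit (phi c' φ₁) :=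
    IsUnit.of_mul_eq_one_right _ ((hmul ψ).symm.trans hψ)
  obtain ⟨a, -, ha⟩ := MvPolynomial.isUnit_iff_eq_C_of_isReduced.1 hunit
  suffices constantCoeff (phi c' φ₁) = constantCoeff (phi c φ₁) by
    rw [hφ₁, map_one, ha, constantCoeff_C] at this
    rw [ha, this, C_1]
  let ev : TT →ₐ[k] Rp :=
    Algebra.TensorProduct.lift ((Algebra.ofId k Rp).comp (MvPolynomial.aeval fun _ => (0 : k)))
      (AlgHom.id k Rp) (fun _ _ => Commute.all _ _)
  have hev : ∀ r s : Rp, ev (r ⊗ₜ[k] s) = C (constantCoeff r) * s := fun r s => by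
    simp [ev, ← algebraMap_eq, Algebra.ofId_apply]
  have hval : ∀ (ψ : Rp →ₗ[Pp] Pp) (z : TT),
      constantCoeff (contract ψ z) = constantCoeff (algebraMap Pp Rp (ψ (ev z))) := by
    intro ψ z
    induction z using TensorProduct.induction_on with
    | zero => simp
    | tmul r s =>
      rw [contract_tmul, map_mul, hev, C_mul', LinearMap.map_smul_of_tower, smul_eq_C_mul, map_mul,
        map_mul, alg_C, constantCoeff_C]
    | add x y hx hy => simp only [map_add, hx, hy]
  let b : τ → k := fun t => constantCoeff (algebraMap Pp Rp (X t))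
  let η : σ → Rp := fun l => th e l - C (b (e l))
  have hX : ∀ i, ev (dd (X i)) = X i := fun i => by simp [dd, hev]
  have hθ : ∀ i, ev (dd (th e i)) = η i := fun i => by
    simp only [dd, map_sub, hev, map_one, C_1, one_mul, mul_one, η, b, th]
  have hexpr : ∀ c₀, IsExpr e c₀ → c₀.map ev *ᵥ X = η := fun c₀ h₀ => by
    funext i
    have := congrArg ev (congrFun h₀ i)
    simp only [mulVec, dotProduct, map_sum, map_mul, hX, hθ] at this
    exact this
  have hdiff := det_sub_mem X η η (fun l => Ideal.mem_span_singleton_self _) (fun i => by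
      rw [← congrFun (hexpr c hc) i, mulVec, dotProduct]
      exact Ideal.sum_mem _ fun l _ => Ideal.mul_mem_left _ _ (Ideal.subset_span ⟨l, rfl⟩))
    (fun i a h => mem_of_th_sub_mul_mem e b i a h) (c'.map ev) (c.map ev) (hexpr c' hc') (hexpr c hc)
  rw [← sub_eq_zero, phi, phi, hval, hval, ← map_sub, ← map_sub, ← map_sub,
    show ev c'.det = (c'.map ev).det from ev.map_det c', show ev c.det = (c.map ev).det from ev.map_det c]
  obtain ⟨w, hw⟩ := Ideal.mem_span_range_iff_exists_fun.1 hdiff
  rw [← hw, map_sum, map_sum, map_sum]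
  refine Finset.sum_eq_zero fun l _ => ?_
  rw [show η l = algebraMap Pp Rp (X (e l) - C (b (e l))) by
      simp only [η, th, map_sub, alg_C],
    mul_comm, ← Algebra.smul_def, map_smul, smul_eq_mul, map_mul, map_mul]
  refine mul_eq_zero_of_left ?_ _
  rw [map_sub, map_sub, alg_C, constantCoeff_C]
  exact sub_self _

omit [Fintype σ] [DecidableEq σ] [Module.Finite (MvPolynomial τ k) (MvPolynomial σ k)]
  [Module.Projective (MvPolynomial τ k) (MvPolynomial σ k)] in
theorem contract_map (g : Rp →ₐ[k] Rp) (hg : ∀ p : Pp, g (algebraMap Pp Rp p) = algebraMap Pp Rp p)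
    (φ φ' : Rp →ₗ[Pp] Pp) (hφ : ∀ s, φ' s = φ (g s)) (z : TT) :
    contract φ (Algebra.TensorProduct.map g g z) = g (contract φ' z) := by
  induction z using TensorProduct.induction_on with
  | zero => simp
  | tmul r s => rw [Algebra.TensorProduct.map_tmul, contract_tmul, contract_tmul, map_mul, hg, hφ]
  | add x y hx hy => simp only [map_add, hx, hy]

include e in
/-- There is a functional generating the dual, fixed by all linear automorphisms of determinant one
fixing the base. -/
theorem exists_generator :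
    ∃ T₀ : Rp →ₗ[Pp] Pp, (∀ ψ, ∃ r, ψ = T₀ ∘ₗ LinearMap.mulLeft Pp r) ∧
      (∀ r, (∀ s, T₀ (r * s) = 0) → r = 0) ∧
      ∀ (g : Rp →ₐ[k] Rp) (M : Matrix σ σ k), (∀ p : Pp, g (algebraMap Pp Rp p) = algebraMap Pp Rp p) →
        (∀ i, g (X i) = ∑ j, M j i • X j) → M.det = 1 → ∀ s, T₀ (g s) = T₀ s := by
  obtain ⟨c, hc⟩ := exists_isExpr (k := k) e
  obtain ⟨T₀, hT₀⟩ := phi_surjective e hc 1
  have hinj : ∀ φ ψ, phi c φ = phi c ψ → φ = ψ := fun φ ψ h => by
    refine sub_eq_zero.1 (phi_injective e hc ?_)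
    have hsub : phi c (φ - ψ) = phi c φ - phi c ψ := by
      rw [phi, phi, phi]
      induction c.det using TensorProduct.induction_on with
      | zero => simp
      | tmul a b => simp [mul_sub]
      | add x y hx hy => rw [map_add, hx, hy, map_add, map_add]; abel
    rw [hsub, h, sub_self]
  refine ⟨T₀, fun ψ => ⟨phi c ψ, hinj _ _ ?_⟩, fun r hr => ?_, fun g M hg hgX hM => ?_⟩
  · rw [phi_mul e hc, hT₀, mul_one]
  · have h0 : T₀ ∘ₗ LinearMap.mulLeft Pp r = 0 := LinearMap.ext hr
    have := phi_mul e hc T₀ r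
    rw [h0, hT₀, mul_one] at this
    rw [← this, phi]
    induction c.det using TensorProduct.induction_on with
    | zero => simp
    | tmul a b => simp
    | add x y hx hy => rw [map_add, hx, hy, add_zero]
  let gP : Rp →ₗ[Pp] Rp :=
    { toFun := g, map_add' := map_add g,
      map_smul' := fun p r => by rw [Algebra.smul_def, map_mul, hg, RingHom.id_apply, Algebra.smul_def] }
  suffices h : T₀ ∘ₗ gP = T₀ from fun s => LinearMap.congr_fun h s
  let γ := Algebra.TensorProduct.map g g
  let N : Matrix σ σ TT := M.transpose.map (algebraMap k TT)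
  have hγX : (fun i => γ (dd (X i))) = N *ᵥ fun i => dd (X i) := by
    funext i
    simp only [γ, dd, map_sub, Algebra.TensorProduct.map_tmul, map_one, hgX, tmul_sum, sum_tmul,
      ← Finset.sum_sub_distrib, N, mulVec, dotProduct, Matrix.map_apply, transpose_apply]
    refine Finset.sum_congr rfl fun j _ => ?_
    rw [← Algebra.smul_def, smul_sub, tmul_smul, ← smul_tmul']
  have hcg : IsExpr e (c.map γ * N) := by
    show (c.map γ * N) *ᵥ (fun i => dd (X i)) = _
    rw [← mulVec_mulVec, ← hγX]
    funext i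
    have := congrArg γ (congrFun hc i)
    simp only [mulVec, dotProduct, map_sum, map_mul] at this
    refine this.trans ?_
    simp only [γ, dd, map_sub, Algebra.TensorProduct.map_tmul, map_one, th, hg]
  have h1 : phi (c.map γ * N) T₀ = g (phi c (T₀ ∘ₗ gP)) := by
    rw [phi, det_mul, show N = (algebraMap k TT).mapMatrix M.transpose from rfl, ← RingHom.map_det,
      det_transpose, hM, map_one, mul_one, show (c.map γ).det = γ c.det from (γ.map_det c).symm]
    exact contract_map g hg T₀ _ (fun _ => rfl) _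
  rw [phi_unique e hc hcg, hT₀] at h1
  obtain ⟨r, hr⟩ : ∃ r, r = phi c (T₀ ∘ₗ gP) := ⟨_, rfl⟩
  refine hinj _ _ ?_
  rw [hT₀]
  have hMu : IsUnit M.transpose := by
    rw [Matrix.isUnit_iff_isUnit_det, det_transpose, hM]; exact isUnit_one
  have hginj : Function.Injective g := by
    obtain ⟨W, hW⟩ := hMu.exists_left_inv
    let g' : Rp →ₐ[k] Rp := MvPolynomial.aeval fun i => ∑ j, W i j • X j
    have hcomp : g'.comp g = AlgHom.id k Rp := MvPolynomial.algHom_ext fun i => by
      have hW' : M.transpose * W = 1 := mul_eq_one_comm.1 hW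
      simp only [AlgHom.comp_apply, hgX, map_sum, map_smul, g', aeval_X, Finset.smul_sum, smul_smul, AlgHom.id_apply]
      rw [Finset.sum_comm]
      calc ∑ l, ∑ j, (M j i * W j l) • (X l : Rp) = ∑ l, (M.transpose * W) i l • X l := by
            refine Finset.sum_congr rfl fun l _ => ?_
            rw [← Finset.sum_smul]; rfl
        _ = X i := by rw [hW']; simp [Matrix.one_apply, ite_smul]
    exact Function.LeftInverse.injective (g := g') (AlgHom.congr_fun hcomp)
  exact hginj (h1.symm.trans (map_one g).symm)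

end Projective

end Groth.Agent.GorInvLib
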