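import Groth.Agent.GorLib.Ring
import Groth.Agent.GorLib.Artinian
import Groth.Agent.CMFlatLib.Local
import Groth.Agent.RegLocLib.AffineDim
import Groth.Agent.GorLib.CM

/-!
# Gorenstein rings from perfect pairings; flatness of polynomial rings over Noether normalisations
-/

set_option autoImplicit false
set_option backward.isDefEq.respectTransparency false
universe u

open TensorProduct

noncomputable section

namespace Groth.Agent.GorInvLib

/-- A finite algebra over a field with a nondegenerate functional is Gorenstein. -/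
theorem gorensteinRing_of_nondegenerate (K : Type u) [Field K] (F : Type u) [CommRing F] [Algebra K F]
    [Module.Finite K F] (t : F →ₗ[K] K) (ht : ∀ x, (∀ y, t (x * y) = 0) → x = 0) :
    LocCoh.IsGorensteinRing F := by
  classical
  haveI : IsArtinianRing F := IsArtinianRing.of_finite K F
  refine { isGorensteinLocalRing_localization := fun Q _ => GorLib.gorenstein_of_simpleSocle ?_ }
  haveI : Q.IsMaximal := IsArtinianRing.isMaximal_of_isPrime Q
  let FQ := Localization.AtPrime Q
  have hsurj : Function.Surjective (algebraMap F FQ) := IsArtinianRing.localization_surjective Q.primeCompl FQ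
  obtain ⟨u, huQ, hu⟩ : ∃ u ∉ Q, ∀ x : F, algebraMap F FQ x = 0 → u * x = 0 := by
    obtain ⟨S, hS⟩ : (RingHom.ker (algebraMap F FQ)).FG := IsNoetherian.noetherian _
    have hx : ∀ x ∈ RingHom.ker (algebraMap F FQ), ∃ m : Q.primeCompl, (m : F) * x = 0 := fun x hx =>
      (IsLocalization.map_eq_zero_iff Q.primeCompl FQ x).1 hx
    choose m hm using hx
    let m' : F → Q.primeCompl := fun x => if h : x ∈ RingHom.ker (algebraMap F FQ) then m x h else 1
    refine ⟨((∏ x ∈ S, m' x : Q.primeCompl) : F), (∏ x ∈ S, m' x).2, fun x hx => ?_⟩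
    have hle : RingHom.ker (algebraMap F FQ) ≤ (LinearMap.ker (LinearMap.mulLeft F ((∏ x ∈ S, m' x : Q.primeCompl) : F))) := by
      rw [← hS, Ideal.span_le]
      intro y hy
      have hyk : y ∈ RingHom.ker (algebraMap F FQ) := hS ▸ Ideal.subset_span hy
      show ((∏ x ∈ S, m' x : Q.primeCompl) : F) * y = 0
      rw [← Finset.mul_prod_erase S m' hy, Submonoid.coe_mul, mul_comm ((m' y : F)), mul_assoc,
        show (m' y : F) * y = 0 by simp only [m', dif_pos hyk]; exact hm y hyk, mul_zero]
    exact hle hx
  have hu' : IsUnit (algebraMap F FQ u) := IsLocalization.map_units FQ (⟨u, huQ⟩ : Q.primeCompl)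
  have hmax : ∀ r ∈ Q, algebraMap F FQ r ∈ IsLocalRing.maximalIdeal FQ := fun r hr =>
    (IsLocalization.AtPrime.to_map_mem_maximal_iff FQ Q r).2 hr
  let U : Submodule K F :=
    { carrier := {x | ∀ r ∈ Q, r * x = 0}
      zero_mem' := fun r _ => mul_zero r
      add_mem' := fun ha hb r hr => by rw [mul_add, ha r hr, hb r hr, add_zero]
      smul_mem' := fun c x hx r hr => by rw [mul_smul_comm, hx r hr, smul_zero] }
  have hlift : ∀ x : FQ, (∀ r ∈ IsLocalRing.maximalIdeal FQ, r * x = 0) →
      ∃ x'' ∈ U, algebraMap F FQ x'' = algebraMap F FQ u * x := fun x hx => by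
    obtain ⟨x', rfl⟩ := hsurj x
    refine ⟨u * x', fun r hr => ?_, map_mul _ _ _⟩
    rw [mul_left_comm]
    exact hu _ (by rw [map_mul]; exact hx _ (hmax r hr))
  obtain ⟨t₀, ht₀, ht₀m⟩ := GorLib.exists_socle_ne_zero (R := FQ)
  obtain ⟨v, hvU, hv⟩ := hlift t₀ ht₀m
  have hv0 : v ≠ 0 := fun h => ht₀ (by rwa [h, map_zero, eq_comm, IsUnit.mul_right_eq_zero hu'] at hv)
  let a : (F ⧸ Q.restrictScalars K) →ₗ[K] U :=
    Submodule.liftQ (Q.restrictScalars K)
      ((LinearMap.mulRight K v).codRestrict U fun c r hr => by
        show r * (c * v) = 0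
        rw [mul_left_comm, hvU r hr, mul_zero])
      (fun c hc => Subtype.ext (hvU c hc))
  have ha : Function.Injective a := by
    rw [← LinearMap.ker_eq_bot, eq_bot_iff]
    intro z hz
    obtain ⟨c, rfl⟩ := Submodule.Quotient.mk_surjective _ z
    have hc : c * v = 0 := congrArg Subtype.val hz
    rw [Submodule.mem_bot, Submodule.Quotient.mk_eq_zero]
    by_contra hcQ
    obtain ⟨d, i, hi, hdi⟩ := Ideal.IsMaximal.exists_inv inferInstance hcQ
    refine hv0 ?_
    rw [← one_mul v, ← hdi, add_mul, mul_assoc, hc, mul_zero, zero_add, hvU i hi]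
  let b : U →ₗ[K] Module.Dual K (F ⧸ Q.restrictScalars K) :=
    { toFun := fun x => Submodule.liftQ (Q.restrictScalars K) (t ∘ₗ LinearMap.mulLeft K (x : F)) (fun c hc => by
        show t ((x : F) * c) = 0
        rw [mul_comm, x.2 c hc, map_zero])
      map_add' := fun x y => Submodule.linearMap_qext _ (LinearMap.ext fun c => by simp [add_mul])
      map_smul' := fun c x => Submodule.linearMap_qext _ (LinearMap.ext fun d => by simp) }
  have hb : Function.Injective b := by
    rw [← LinearMap.ker_eq_bot, eq_bot_iff]
    intro x hx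
    rw [Submodule.mem_bot]
    exact Subtype.ext (ht _ fun y => LinearMap.congr_fun hx (Submodule.Quotient.mk y))
  have has : Function.Surjective a := by
    haveI : Module.Finite K U := Module.Finite.of_injective b hb
    have h1 := LinearMap.finrank_le_finrank_of_injective hb
    rw [Subspace.dual_finrank_eq] at h1
    have h2 := LinearMap.finrank_le_finrank_of_injective ha
    exact (LinearMap.injective_iff_surjective_of_finrank_eq_finrank (le_antisymm h2 h1)).1 ha
  refine ⟨t₀, ht₀, ht₀m, fun x hx => ?_⟩
  obtain ⟨x'', hx''U, hx''⟩ := hlift x hx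
  obtain ⟨z, hz⟩ := has ⟨x'', hx''U⟩
  obtain ⟨c, rfl⟩ := Submodule.Quotient.mk_surjective _ z
  have hc : c * v = x'' := congrArg Subtype.val hz
  refine ⟨algebraMap F FQ c, hu'.mul_left_cancel ?_⟩
  rw [← hx'', ← hc, map_mul, hv]
  ring

/-- A finite projective algebra over a regular ring whose dual is generated by one functional is
Gorenstein. -/
theorem gorensteinRing_of_dual_cyclic (P A : Type u) [CommRing P] [IsRegularRing P] [CommRing A] [Algebra P A]
    [Module.Finite P A] [Module.Projective P A] (T : A →ₗ[P] P)
    (hT : ∀ ψ : A →ₗ[P] P, ∃ a, ψ = T ∘ₗ LinearMap.mulLeft P a) : LocCoh.IsGorensteinRing A := by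
  haveI : IsNoetherianRing A := IsNoetherianRing.of_finite P A
  haveI : LocCoh.IsGorensteinRing P := GorLib.gorensteinRing_of_regular P
  refine GorLib.gorensteinRing_of_flat_fibres (R := P)
    (fun Q _ => LocCoh.IsGorensteinRing.isGorensteinLocalRing_localization _) fun p _ => ?_
  let t : p.Fiber A →ₗ[p.ResidueField] p.ResidueField :=
    (AlgebraTensorModule.rid P p.ResidueField p.ResidueField).toLinearMap ∘ₗ T.baseChange p.ResidueField
  have ht : ∀ (c : p.ResidueField) (s : A), t (c ⊗ₜ[P] s) = T s • c := fun c s => by simp [t]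
  obtain ⟨m, π, hπ⟩ := Module.Finite.exists_fin' P A
  obtain ⟨h, hh⟩ := Module.projective_lifting_property π LinearMap.id hπ
  choose w hw using fun j => hT (LinearMap.proj j ∘ₗ h)
  have hdual : ∀ s, s = ∑ j, T (w j * s) • π (Pi.single j 1) := fun s => by
    conv_lhs => rw [show s = π (h s) from (LinearMap.congr_fun hh s).symm, pi_eq_sum_univ' (h s), map_sum]
    refine Finset.sum_congr rfl fun j _ => ?_
    rw [map_smul]
    exact congrArg (· • _) (LinearMap.congr_fun (hw j) s)
  let L : p.Fiber A →ₗ[p.ResidueField] Module.Dual p.ResidueField (p.Fiber A) :=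
    (LinearMap.mul p.ResidueField (p.Fiber A)).compr₂ t
  have hL : Function.Surjective L := by
    intro Ψ
    refine ⟨∑ j, Ψ (1 ⊗ₜ[P] π (Pi.single j 1)) ⊗ₜ[P] w j, ?_⟩
    refine TensorProduct.AlgebraTensorModule.ext fun c s => ?_
    show t ((∑ j, Ψ (1 ⊗ₜ[P] π (Pi.single j 1)) ⊗ₜ[P] w j) * (c ⊗ₜ[P] s)) = Ψ (c ⊗ₜ[P] s)
    conv_rhs => rw [show c ⊗ₜ[P] s = c • ((1 : p.ResidueField) ⊗ₜ[P] s) by rw [smul_tmul', smul_eq_mul, mul_one],
      map_smul, hdual s, tmul_sum, map_sum]
    rw [Finset.sum_mul, map_sum, Finset.smul_sum]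
    refine Finset.sum_congr rfl fun j _ => ?_
    rw [Algebra.TensorProduct.tmul_mul_tmul, ht, tmul_smul, LinearMap.map_smul_of_tower, smul_eq_mul,
      Algebra.smul_def, Algebra.smul_def]
    ring
  have hinj : Function.Injective L :=
    (LinearMap.injective_iff_surjective_of_finrank_eq_finrank Subspace.dual_finrank_eq.symm).2 hL
  exact gorensteinRing_of_nondegenerate p.ResidueField _ t fun x hx =>
    hinj ((LinearMap.ext hx).trans (map_zero L).symm)

/-- Miracle flatness, globally. -/
theorem flat_of_height_eq (P R : Type u) [CommRing P] [IsRegularRing P] [CommRing R] [IsRegularRing R] [Algebra P R]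
    [Module.Finite P R] (hh : ∀ M : Ideal R, M.IsMaximal → M.height = (M.comap (algebraMap P R)).height) :
    Module.Flat P R := by
  refine Module.flat_of_isLocalized_maximal R R
    (fun M _ => Localization.AtPrime M) (fun M _ => Algebra.linearMap R (Localization.AtPrime M))
    fun M hM => ?_
  let q := M.comap (algebraMap P R)
  haveI : q.IsMaximal := Ideal.isMaximal_comap_of_isIntegral_of_isMaximal (R := P) M
  letI := (Localization.localRingHom q M (algebraMap P R) rfl).toAlgebra
  haveI : IsScalarTower P (Localization.AtPrime q) (Localization.AtPrime M) :=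
    IsScalarTower.of_algebraMap_eq fun y => by
      rw [RingHom.algebraMap_toAlgebra, Localization.localRingHom_to_map, ← IsScalarTower.algebraMap_apply]
  rw [← Module.flat_iff_of_isLocalization (Localization.AtPrime q) q.primeCompl]
  haveI : IsRegularLocalRing (Localization.AtPrime q) := IsRegularRing.isRegularLocalRing_localization q
  haveI : IsRegularLocalRing (Localization.AtPrime M) := IsRegularRing.isRegularLocalRing_localization M
  haveI : LocCoh.IsCohenMacaulayLocalRing (Localization.AtPrime M) :=
    GorLib.isCohenMacaulay _ (GorLib.gorensteinLocal_of_regular _)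
  refine CMFlatLib.flat_of_cm _ _ ?_ ?_
  · refine le_antisymm ?_ ?_
    · refine (Ideal.IsPrime.radical_le_iff inferInstance).2 (Ideal.map_le_iff_le_comap.2 ?_)
      haveI : IsLocalHom (algebraMap (Localization.AtPrime q) (Localization.AtPrime M)) := by
        rw [RingHom.algebraMap_toAlgebra]; infer_instance
      exact ((IsLocalRing.local_hom_TFAE _).out 0 3 rfl rfl).1 inferInstance
    · rw [Ideal.radical_eq_sInf]
      refine le_sInf ?_
      rintro J ⟨hP, hPp⟩
      haveI := hPp
      have h1 : (J.under R).IsMaximal := by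
        refine Ideal.isMaximal_of_isIntegral_of_isMaximal_comap (R := P) _ ?_
        have hq : q ≤ (J.under R).comap
            (algebraMap P R) := fun y hy => by
          have := hP (Ideal.mem_map_of_mem _ ((IsLocalization.AtPrime.to_map_mem_maximal_iff
            (Localization.AtPrime q) q y).2 hy))
          rwa [← IsScalarTower.algebraMap_apply, IsScalarTower.algebraMap_apply P
            R (Localization.AtPrime M)] at this
        have hmax : q.IsMaximal := inferInstance
        rw [← hmax.eq_of_le (Ideal.IsPrime.comap _).ne_top hq]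
        exact hmax
      have h2 : J.under R = M := h1.eq_of_le hM.ne_top (by
        intro y hy
        rw [← IsLocalization.AtPrime.to_map_mem_maximal_iff (Localization.AtPrime M) M]
        exact IsLocalRing.le_maximalIdeal hPp.ne_top hy)
      intro y hy
      obtain ⟨⟨r, m⟩, rfl⟩ := IsLocalization.mk'_surjective M.primeCompl y
      have hr : r ∈ J.under R :=
        h2.symm ▸ (IsLocalization.AtPrime.mk'_mem_maximal_iff (Localization.AtPrime M) M r m).1 hy
      exact IsLocalization.mk'_mem_iff.2 hr
  · rw [IsLocalization.AtPrime.ringKrullDim_eq_height M, IsLocalization.AtPrime.ringKrullDim_eq_height q, hh M hM]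

/-- A polynomial ring finite over a polynomial subring in as many variables is projective over it. -/
theorem projective_of_finite_injective (k : Type u) [Field k] (s n : ℕ) (hsn : s = n)
    [Algebra (MvPolynomial (Fin s) k) (MvPolynomial (Fin n) k)]
    [Module.Finite (MvPolynomial (Fin s) k) (MvPolynomial (Fin n) k)] :
    Module.Projective (MvPolynomial (Fin s) k) (MvPolynomial (Fin n) k) := by
  haveI : Module.Flat (MvPolynomial (Fin s) k) (MvPolynomial (Fin n) k) := flat_of_height_eq _ _ fun M hM => by
    haveI := hM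
    haveI : (M.comap (algebraMap (MvPolynomial (Fin s) k) (MvPolynomial (Fin n) k))).IsMaximal :=
      Ideal.isMaximal_comap_of_isIntegral_of_isMaximal (R := MvPolynomial (Fin s) k) M
    rw [RegLocLib.height_eq_of_isMaximal_mvPolynomial k n M inferInstance,
      RegLocLib.height_eq_of_isMaximal_mvPolynomial k s _ inferInstance, hsn]
  haveI : Module.FinitePresentation (MvPolynomial (Fin s) k) (MvPolynomial (Fin n) k) :=
    Module.finitePresentation_of_finite _ _
  exact Module.Flat.projective_of_finitePresentation

end Groth.Agent.GorInvLib
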